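import Cfsg.Agent.H528.ClassSize
import Cfsg.Agent.H503.TwoRegA
import Cfsg.Agent.H524.ClassSize
import Cfsg.Agent.S0007
import Cfsg.Agent.H395.Jordan
import Cfsg.Agent.S4033
import Cfsg.Agent.S4034
import Cfsg.Agent.S4035
import Cfsg.Agent.S4127
import Cfsg.Agent.OddOrderLocal.NilpotentQuotient
import Cfsg.Agent.Lib.BenderMaximal
import Cfsg.Agent.Lib.HallHigman
import Cfsg.Agent.S0144
set_option linter.all false

-- part: H528/CSBasic
section
/-!
# Groups with the class sizes `1, n, m, n m` (`n`, `m` coprime), I: generalities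

`PE p x`: `x` is a `p`-element. `CSH G n m`: every class size of `G` is one of `1, n, m, n * m` with coprime
`n, m > 1`, and all four occur.
-/

set_option autoImplicit false
set_option linter.style.haveILetI false

namespace Cfsg.Agent.H528.CS

open Subgroup
open Cfsg.Agent.H528.ClassSize

variable {G : Type*} [Group G]

/-- The centralizer of an element. -/
abbrev cent (x : G) : Subgroup G := Subgroup.centralizer ({x} : Set G)

/-- `p`-elements. -/
def PE (p : ℕ) (x : G) : Prop := ∃ k : ℕ, x ^ p ^ k = 1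

theorem mem_cent' {x y : G} : y ∈ cent x ↔ Commute y x := Subgroup.mem_centralizer_singleton_iff

theorem mem_cent_comm {x y : G} : y ∈ cent x ↔ x ∈ cent y := by
  rw [mem_cent', mem_cent']
  exact ⟨fun h => h.symm, fun h => h.symm⟩

theorem PE.of_mem_zpowers {p : ℕ} {x y : G} (hx : PE p x) (hy : y ∈ zpowers x) : PE p y := by
  obtain ⟨k, hk⟩ := hx
  obtain ⟨j, rfl⟩ := hy
  refine ⟨k, ?_⟩
  show (x ^ j) ^ p ^ k = 1
  rw [← zpow_natCast, ← zpow_mul, mul_comm, zpow_mul, zpow_natCast, hk, one_zpow]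

theorem PE.conj {p : ℕ} {x : G} (hx : PE p x) (g : G) : PE p (g * x * g⁻¹) := by
  obtain ⟨k, hk⟩ := hx
  exact ⟨k, by rw [conj_pow, hk, mul_one, mul_inv_cancel]⟩

theorem PE.map {p : ℕ} {x : G} (hx : PE p x) {H : Type*} [Group H] (f : G →* H) : PE p (f x) := by
  obtain ⟨k, hk⟩ := hx
  exact ⟨k, by rw [← map_pow, hk, map_one]⟩

theorem PE.coe {p : ℕ} {H : Subgroup G} {x : H} (hx : PE p x) : PE p (x : G) := hx.map H.subtype

theorem PE.mk {p : ℕ} {H : Subgroup G} {x : G} (hx : PE p x) (hxH : x ∈ H) : PE p (⟨x, hxH⟩ : H) := by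
  obtain ⟨k, hk⟩ := hx
  exact ⟨k, Subtype.ext (by simpa using hk)⟩

theorem PE.isPGroup {p : ℕ} {x : G} (hx : PE p x) : IsPGroup p (zpowers x) := by
  rintro ⟨y, hy⟩
  obtain ⟨k, hk⟩ := hx.of_mem_zpowers hy
  exact ⟨k, Subtype.ext (by simpa using hk)⟩

theorem pe_of_mem {p : ℕ} {Q : Subgroup G} (hQ : IsPGroup p Q) {x : G} (hx : x ∈ Q) : PE p x := by
  obtain ⟨k, hk⟩ := hQ ⟨x, hx⟩
  exact ⟨k, by simpa using congrArg Subtype.val hk⟩

theorem PE.exists_orderOf {p : ℕ} (hp : p.Prime) {x : G} (hx : PE p x) : ∃ k, orderOf x = p ^ k := by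
  obtain ⟨k, hk⟩ := hx
  obtain ⟨j, -, hj⟩ := (Nat.dvd_prime_pow hp).mp (orderOf_dvd_of_pow_eq_one hk)
  exact ⟨j, hj⟩

theorem pe_of_orderOf {p k : ℕ} {x : G} (hx : orderOf x = p ^ k) : PE p x :=
  ⟨k, by rw [← hx, pow_orderOf_eq_one]⟩

theorem PE.coprime {p q : ℕ} (hp : p.Prime) (hq : q.Prime) (hpq : p ≠ q) {x : G} (hx : PE p x) :
    (orderOf x).Coprime q := by
  obtain ⟨k, hk⟩ := hx.exists_orderOf hp
  rw [hk]
  exact Nat.Coprime.pow_left _ ((Nat.coprime_primes hp hq).mpr hpq)

theorem PE.coprime_of {p : ℕ} (hp : p.Prime) {x y : G} (hx : PE p x) (hy : (orderOf y).Coprime p) :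
    (orderOf x).Coprime (orderOf y) := by
  obtain ⟨k, hk⟩ := hx.exists_orderOf hp
  rw [hk]
  exact Nat.Coprime.pow_left _ hy.symm

theorem PE.eq_one {p : ℕ} (hp : p.Prime) {x : G} (hx : PE p x) (hy : (orderOf x).Coprime p) : x = 1 := by
  have h := hx.coprime_of hp hy
  rw [Nat.coprime_self, orderOf_eq_one_iff] at h
  exact h

theorem PE.eq_one' {p q : ℕ} (hp : p.Prime) (hq : q.Prime) (hpq : p ≠ q) {x : G} (hx : PE p x)
    (hy : PE q x) : x = 1 :=
  hx.eq_one hp (hy.coprime hq hp hpq.symm)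

/-! ### Class sizes -/

theorem cent_conj_mem {g x y : G} : g * y * g⁻¹ ∈ cent (g * x * g⁻¹) ↔ y ∈ cent x := by
  rw [mem_cent', mem_cent']
  constructor
  · intro h
    have h1 : g * (y * x) * g⁻¹ = g * (x * y) * g⁻¹ := by
      have := h.eq
      calc g * (y * x) * g⁻¹ = (g * y * g⁻¹) * (g * x * g⁻¹) := by group
        _ = (g * x * g⁻¹) * (g * y * g⁻¹) := this
        _ = g * (x * y) * g⁻¹ := by group
    exact mul_left_cancel (mul_right_cancel h1)
  · intro h
    show _ = _
    calc (g * y * g⁻¹) * (g * x * g⁻¹) = g * (y * x) * g⁻¹ := by group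
      _ = g * (x * y) * g⁻¹ := by rw [h.eq]
      _ = (g * x * g⁻¹) * (g * y * g⁻¹) := by group

theorem ci_conj (g x : G) : ci (g * x * g⁻¹) = ci x := by
  have := ci_equiv (MulAut.conj g) x
  simpa [MulAut.conj_apply] using this

theorem ci_eq_one_iff {x : G} : ci x = 1 ↔ x ∈ center G := by
  rw [ci_def, Subgroup.index_eq_one, Cfsg.Agent.H503.TwoReg.mem_center_iff_centralizer]

theorem cent_eq_of_dvd [Finite G] {x y : G} (h : cent x ≤ cent y) (hd : ci x ∣ ci y) : cent x = cent y := by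
  apply Subgroup.eq_of_le_of_card_ge h
  have h1 := (cent x).card_mul_index
  have h2 := (cent y).card_mul_index
  have hx : (cent x).index = ci x := rfl
  have hy : (cent y).index = ci y := rfl
  rw [hx] at h1
  rw [hy, ← h1, Nat.dvd_antisymm hd (ci_dvd_of_le h)] at h2
  exact (Nat.eq_of_mul_eq_mul_right (Nat.pos_of_ne_zero (ci_ne_zero y)) h2).le

/-- The centralizer of a commuting product of coprime orders. -/
theorem cent_mul {x z : G} (hc : Commute x z) (hcop : (orderOf x).Coprime (orderOf z)) :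
    cent (x * z) = cent x ⊓ cent z := by
  apply le_antisymm
  · refine le_inf ?_ ?_
    · exact Cfsg.Agent.H503.TwoReg.centralizer_le_of_mem_zpowers
        (Cfsg.Agent.H503.TwoReg.left_mem_zpowers_mul hc hcop)
    · exact Cfsg.Agent.H503.TwoReg.centralizer_le_of_mem_zpowers
        (Cfsg.Agent.H503.TwoReg.right_mem_zpowers_mul hc hcop)
  · intro g hg
    rw [Subgroup.mem_inf, mem_cent', mem_cent'] at hg
    rw [mem_cent']
    exact hg.1.mul_right hg.2

theorem cent_le_of_mem_zpowers {x y : G} (h : y ∈ zpowers x) : cent x ≤ cent y :=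
  Cfsg.Agent.H503.TwoReg.centralizer_le_of_mem_zpowers h

theorem cent_subgroup (H : Subgroup G) (z : H) : cent z = (cent (z : G)).subgroupOf H := by
  ext y
  rw [mem_cent', Subgroup.mem_subgroupOf, mem_cent']
  constructor
  · intro h
    exact congrArg Subtype.val h.eq
  · intro h
    exact Subtype.ext h.eq

theorem ci_subgroup (H : Subgroup G) (z : H) : ci z = (cent (z : G)).relIndex H := by
  unfold ci
  rw [show Subgroup.centralizer ({z} : Set H) = cent z from rfl, cent_subgroup]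
  rfl

/-- The class size of a commuting product of coprime orders. -/
theorem ci_mul {x : G} (z : cent x) (hcop : (orderOf x).Coprime (orderOf (z : G))) :
    ci (x * (z : G)) = ci x * ci z := by
  have hc : Commute x (z : G) := (mem_cent'.mp z.2).symm
  rw [ci_subgroup, ci_def, ci_def]
  have h1 := cent_mul hc hcop
  unfold cent at h1
  rw [h1, inf_comm, mul_comm]
  have h2 := Subgroup.relIndex_mul_index (H := cent (z : G) ⊓ cent x) (K := cent x) inf_le_right
  rw [Subgroup.inf_relIndex_right] at h2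
  exact h2.symm

theorem ci_dvd_of_mem_zpowers {x y : G} (h : y ∈ zpowers x) : ci y ∣ ci x :=
  ci_dvd_of_le (cent_le_of_mem_zpowers h)

/-- If `r` divides no class size, then the `r`-elements are central. -/
theorem mem_center_of_not_dvd [Finite G] {r : ℕ} [hr : Fact r.Prime] (h : ∀ g : G, ¬ r ∣ ci g)
    {x : G} (hx : PE r x) : x ∈ center G := by
  rw [Cfsg.Agent.H503.TwoReg.mem_center_iff_centralizer]
  by_contra hne
  obtain ⟨g, hg⟩ := Cfsg.Agent.H395.Jordan.exists_not_conj_mem hne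
  obtain ⟨R, hR⟩ := exists_sylow_le_cent r g (h g)
  obtain ⟨S, hS⟩ := hx.isPGroup.exists_le_sylow
  obtain ⟨c, hc⟩ := MulAction.exists_smul_eq G S R
  have hxc : c * x * c⁻¹ ∈ (R : Subgroup G) := by
    rw [← hc, Sylow.smul_def]
    have : x ∈ (S : Subgroup G) := hS (mem_zpowers x)
    exact ⟨x, this, rfl⟩
  apply hg c
  have h1 := hR hxc
  rw [mem_centralizer_singleton_iff]
  have h2 : (c * x * c⁻¹) * g = g * (c * x * c⁻¹) := mem_centralizer_singleton_iff.mp h1
  calc c⁻¹ * g * c * x = c⁻¹ * (g * (c * x * c⁻¹)) * c := by group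
    _ = c⁻¹ * ((c * x * c⁻¹) * g) * c := by rw [h2]
    _ = x * (c⁻¹ * g * c) := by group

/-- A non-central element has a non-central primary part. -/
theorem exists_primary' [Finite G] {x : G} (hx : x ∉ center G) :
    ∃ s : ℕ, s.Prime ∧ ∃ y ∈ zpowers x, y ∉ center G ∧ PE s y := by
  obtain ⟨s, hs, -, y, hy, hyP, hk⟩ := Cfsg.Agent.H503.TwoReg.exists_primary (p := 1) (orderOf x) x rfl
    ⟨Nat.coprime_one_right _, hx⟩
  exact ⟨s, hs, y, hy, hyP.2, hk⟩

/-- If an element of coprime class size commutes with `x`, all the conjugates do. -/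
theorem commute_conj [Finite G] {x y : G} (hc : Commute x y) (hcop : (ci x).Coprime (ci y)) (g h : G) :
    Commute (g * x * g⁻¹) (h * y * h⁻¹) := by
  obtain ⟨-, h1⟩ := Cfsg.Agent.S0007.result (cent y) (cent x) (by exact hcop.symm)
  obtain ⟨d, hd, c, hcx, hgh⟩ := h1 (h⁻¹ * g)
  have h2 : Commute (h⁻¹ * g * x * (h⁻¹ * g)⁻¹) y := by
    rw [hgh]
    have h3 : d * c * x * (d * c)⁻¹ = d * x * d⁻¹ := by
      have h4 : c * x = x * c := (mem_cent'.mp hcx).eq
      calc d * c * x * (d * c)⁻¹ = d * (c * x) * c⁻¹ * d⁻¹ := by group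
        _ = d * (x * c) * c⁻¹ * d⁻¹ := by rw [h4]
        _ = d * x * d⁻¹ := by group
    rw [h3]
    have h5 : d * y = y * d := (mem_cent'.mp hd).eq
    have h6 : y = d * y * d⁻¹ := by rw [h5]; group
    rw [h6]
    exact mem_cent'.mp (cent_conj_mem.mpr (mem_cent'.mpr hc))
  have h7 := mem_cent'.mp (cent_conj_mem (g := h).mpr (mem_cent'.mpr h2))
  have h8 : h * (h⁻¹ * g * x * (h⁻¹ * g)⁻¹) * h⁻¹ = g * x * g⁻¹ := by group
  rwa [h8] at h7

/-- A subgroup containing a Sylow subgroup for each prime is everything. -/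
theorem eq_top_of_sylow [Finite G] (H : Subgroup G)
    (h : ∀ r : ℕ, r.Prime → ¬ r ∣ H.index) : H = ⊤ := by
  rw [← Subgroup.index_eq_one]
  by_contra hne
  exact h _ (Nat.minFac_prime hne) (Nat.minFac_dvd _)

theorem not_dvd_index_of_pe [Finite G] {r : ℕ} (hr : r.Prime) (H : Subgroup G)
    (h : ∀ x : G, PE r x → x ∈ H) : ¬ r ∣ H.index := by
  have := Fact.mk hr
  obtain ⟨R⟩ : Nonempty (Sylow r G) := inferInstance
  intro hd
  apply R.not_dvd_index
  refine hd.trans (Subgroup.index_dvd_of_le ?_)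
  intro x hx
  exact h x (pe_of_mem R.isPGroup' hx)

/-- A subgroup containing all elements of prime power order is everything. -/
theorem eq_top_of_pe [Finite G] (H : Subgroup G) (h : ∀ r : ℕ, r.Prime → ∀ x : G, PE r x → x ∈ H) :
    H = ⊤ :=
  eq_top_of_sylow H fun r hr => not_dvd_index_of_pe hr H (h r hr)

/-! ### The hypothesis -/

/-- The class sizes are `1, n, m, n m` with coprime `n, m > 1`. -/
structure CSH (G : Type*) [Group G] (n m : ℕ) : Prop where
  hn : 1 < n
  hm : 1 < m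
  cop : n.Coprime m
  cases : ∀ x : G, ci x = 1 ∨ ci x = n ∨ ci x = m ∨ ci x = n * m
  exn : ∃ x : G, ci x = n
  exm : ∃ x : G, ci x = m
  exnm : ∃ x : G, ci x = n * m

variable {n m : ℕ}

theorem CSH.symm (h : CSH G n m) : CSH G m n where
  hn := h.hm
  hm := h.hn
  cop := h.cop.symm
  cases x := by
    rcases h.cases x with h1 | h1 | h1 | h1
    · exact Or.inl h1
    · exact Or.inr (Or.inr (Or.inl h1))
    · exact Or.inr (Or.inl h1)
    · exact Or.inr (Or.inr (Or.inr (by rw [h1, mul_comm])))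
  exn := h.exm
  exm := h.exn
  exnm := by
    obtain ⟨x, hx⟩ := h.exnm
    exact ⟨x, by rw [hx, mul_comm]⟩

theorem CSH.not_dvd (h : CSH G n m) : ¬ n ∣ m := by
  intro hd
  have := Nat.eq_one_of_dvd_coprimes h.cop dvd_rfl hd
  have := h.hn
  omega

theorem CSH.not_dvd' (h : CSH G n m) : ¬ m ∣ n := h.symm.not_dvd

/-- Class sizes divisible by `n`. -/
theorem CSH.of_dvd (h : CSH G n m) {c : ℕ} (hc : c = 1 ∨ c = n ∨ c = m ∨ c = n * m) (hd : n ∣ c) :
    c = n ∨ c = n * m := by
  rcases hc with h1 | h1 | h1 | h1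
  · exfalso
    rw [h1, Nat.dvd_one] at hd
    have := h.hn
    omega
  · exact Or.inl h1
  · rw [h1] at hd
    exact absurd hd h.not_dvd
  · exact Or.inr h1

/-- Class sizes dividing `n`. -/
theorem CSH.of_dvd' (h : CSH G n m) {c : ℕ} (hc : c = 1 ∨ c = n ∨ c = m ∨ c = n * m) (hd : c ∣ n) :
    c = 1 ∨ c = n := by
  rcases hc with h1 | h1 | h1 | h1
  · exact Or.inl h1
  · exact Or.inr h1
  · rw [h1] at hd
    exact absurd hd h.not_dvd'
  · rw [h1] at hd
    exact absurd ((dvd_mul_left m n).trans hd) h.not_dvd'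

theorem CSH.exists_primary_n [Finite G] (h : CSH G n m) {x : G} (hx : ci x = n) :
    ∃ s : ℕ, s.Prime ∧ ∃ y ∈ zpowers x, ci y = n ∧ PE s y := by
  have hxc : x ∉ center G := by
    intro hc
    rw [← ci_eq_one_iff, hx] at hc
    have := h.hn
    omega
  obtain ⟨s, hs, y, hy, hyc, hyP⟩ := exists_primary' hxc
  refine ⟨s, hs, y, hy, ?_, hyP⟩
  rcases h.of_dvd' (h.cases y) (hx ▸ ci_dvd_of_mem_zpowers hy) with h1 | h1
  · exact absurd (ci_eq_one_iff.mp h1) hyc
  · exact h1

/-- A prime dividing neither `n` nor `m`: the elements of its power order are central. -/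
theorem CSH.mem_center [Finite G] (h : CSH G n m) {r : ℕ} (hr : r.Prime) (h1 : ¬ r ∣ n) (h2 : ¬ r ∣ m)
    {x : G} (hx : PE r x) : x ∈ center G := by
  have := Fact.mk hr
  refine mem_center_of_not_dvd (r := r) (fun g hg => ?_) hx
  rcases h.cases g with h3 | h3 | h3 | h3 <;> rw [h3] at hg
  · exact hr.one_lt.ne' (Nat.dvd_one.mp hg)
  · exact h1 hg
  · exact h2 hg
  · exact (hr.dvd_mul.mp hg).elim h1 h2

end Cfsg.Agent.H528.CS
end

-- part: H528/CSCaseA
section
/-!
# Groups with the class sizes `1, n, m, n m` (`n`, `m` coprime), II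

The case that there is a `t`-element of class size `n`, `t` a prime not dividing `m`: then `m` is a power of a
prime `s` and there is an `s`-element of class size `m`. If this is so for `n` as well the group is nilpotent.
-/

set_option autoImplicit false
set_option linter.style.haveILetI false

namespace Cfsg.Agent.H528.CS

open Subgroup
open Cfsg.Agent.H528.ClassSize

variable {G : Type*} [Group G]

theorem mem_of_coprime_index [Finite G] (H : Subgroup G) [H.Normal] {y : G}
    (h : (orderOf y).Coprime H.index) : y ∈ H := by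
  have h1 : orderOf (y : G ⧸ H) ∣ orderOf y := orderOf_map_dvd (QuotientGroup.mk' H) y
  have h2 : orderOf (y : G ⧸ H) ∣ H.index := orderOf_dvd_natCard _
  have h3 := Nat.eq_one_of_dvd_coprimes h h1 h2
  rw [orderOf_eq_one_iff, QuotientGroup.eq_one_iff] at h3
  exact h3

/-- Two class sizes `1, m` of the `p`-regular elements, `m` being the size of an `s`-element: `m` divides some
`p ^ i * s ^ j`. -/
theorem dvd_of_two_sizes [Finite G] {p s m : ℕ} (hp : p.Prime) (hs : s.Prime) (hps : s ≠ p) (hm : 1 < m)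
    (h : ∀ z : G, (orderOf z).Coprime p → ci z = 1 ∨ ci z = m) {y : G} (hy : PE s y) (hym : ci y = m) :
    ∃ i j : ℕ, m ∣ p ^ i * s ^ j := by
  have hpf := Fact.mk hp
  have hyc : y ∉ center G := by
    intro hc
    rw [← ci_eq_one_iff, hym] at hc
    omega
  have hr : (Set.range fun x : {x : G // (orderOf x).Coprime p} =>
      (ConjClasses.mk (x : G)).carrier.ncard) = {1, m} := by
    ext c
    simp only [Set.mem_range, Set.mem_insert_iff, Set.mem_singleton_iff]
    constructor
    · rintro ⟨x, rfl⟩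
      rw [Cfsg.Agent.H503.ncard_class]
      exact h x x.2
    · rintro (rfl | rfl)
      · refine ⟨⟨1, by simp⟩, ?_⟩
        rw [Cfsg.Agent.H503.ncard_class]
        exact ci_eq_one_iff.mpr (one_mem _)
      · refine ⟨⟨y, hy.coprime hs hp hps⟩, ?_⟩
        rw [Cfsg.Agent.H503.ncard_class]
        exact hym
  have h2 : Set.ncard (Set.range fun x : {x : G // (orderOf x).Coprime p} =>
      (ConjClasses.mk (x : G)).carrier.ncard) = 2 := by
    rw [hr]
    exact Set.ncard_pair (by omega)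
  rcases Cfsg.Agent.S4033.result hp h2 with h3 | ⟨q, hq, P, Q, A, hqp, hA, hcard, hn, hinf, hsup⟩
  · obtain ⟨k, hk⟩ := (Cfsg.Agent.S4034.result hp).mpr h3 y (hy.coprime hs hp hps)
    rw [Cfsg.Agent.H503.ncard_class] at hk
    refine ⟨k, 0, ?_⟩
    have : ci y = p ^ k := hk
    rw [← hym, this, pow_zero, mul_one]
  · have hAn : A.Normal := by
      refine ⟨fun a ha g => ?_⟩
      have := mem_center_iff.mp (hA ha) g
      rw [this, mul_inv_cancel_right]
      exact ha
    have hidx : A.index = Nat.card P * Nat.card Q := by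
      have h4 := A.card_mul_index
      have h5 : Nat.card A * Nat.card ↥((P : Subgroup G) ⊔ (Q : Subgroup G)) = Nat.card G := by
        have h6 : IsComplement' A ((P : Subgroup G) ⊔ (Q : Subgroup G)) := by
          apply isComplement'_of_disjoint_and_mul_eq_univ
          · rw [disjoint_iff, inf_comm]
            exact hinf
          · rw [← Subgroup.normal_mul, sup_comm, hsup]
            rfl
        exact h6.card_mul
      rw [hcard] at h5
      exact Nat.eq_of_mul_eq_mul_left Nat.card_pos (h4.trans h5.symm)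
    obtain ⟨i, hi⟩ := P.isPGroup'.exists_card_eq
    obtain ⟨j, hj⟩ := Q.isPGroup'.exists_card_eq
    have hyA : y ∉ A := fun hyA => hyc (hA hyA)
    have hqs : q = s := by
      by_contra hqs
      apply hyA
      apply mem_of_coprime_index
      rw [hidx, hi, hj]
      exact Nat.Coprime.mul_right (Nat.Coprime.pow_right _ (hy.coprime hs hp hps))
        (Nat.Coprime.pow_right _ (hy.coprime hs hq.out (fun h => hqs h.symm)))
    subst hqs
    refine ⟨i, j, ?_⟩
    rw [← hym, ← hi, ← hj, ← hidx]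
    apply Subgroup.index_dvd_of_le
    intro a ha
    rw [mem_cent']
    exact ((mem_center_iff.mp (hA ha)) y).symm

theorem ci_cent_cases [Finite G] {n m : ℕ} (h : CSH G n m) {x : G} (hxn : ci x = n) (z : cent x)
    (hcop : (orderOf x).Coprime (orderOf (z : G))) : ci z = 1 ∨ ci z = m := by
  have h1 := ci_mul z hcop
  rw [hxn] at h1
  have hn0 : 0 < n := lt_trans one_pos h.hn
  rcases h.of_dvd (h.cases (x * z)) (h1 ▸ dvd_mul_right _ _) with h2 | h2
  · left
    rw [h2] at h1
    exact (Nat.eq_of_mul_eq_mul_left hn0 (by rw [mul_one]; exact h1)).symm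
  · right
    rw [h2] at h1
    exact (Nat.eq_of_mul_eq_mul_left hn0 h1).symm

/-- The class size in `C(x)` of an element of class size coprime to that of `x`. -/
theorem ci_cent_eq [Finite G] {x : G} (z : cent x) (hcop : (ci x).Coprime (ci (z : G))) :
    ci z = ci (z : G) := by
  obtain ⟨h1, -⟩ := Cfsg.Agent.S0007.result (cent (z : G)) (cent x) (by exact hcop.symm)
  have h2 := Subgroup.relIndex_mul_index (H := cent (z : G) ⊓ cent x) (K := cent x) inf_le_right
  rw [Subgroup.inf_relIndex_right, h1] at h2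
  rw [ci_subgroup]
  exact Nat.eq_of_mul_eq_mul_right (Nat.pos_of_ne_zero (ci_ne_zero x)) h2

/-- An element centralized by a Sylow `t`-subgroup has a conjugate commuting with a given `t`-element. -/
theorem exists_conj_commute [Finite G] {t : ℕ} (ht : t.Prime) {x y : G} (hx : PE t x) (hy : ¬ t ∣ ci y) :
    ∃ c : G, Commute x (c * y * c⁻¹) := by
  have := Fact.mk ht
  obtain ⟨R, hR⟩ := exists_sylow_le_cent t y hy
  obtain ⟨S, hS⟩ := hx.isPGroup.exists_le_sylow
  obtain ⟨c, hc⟩ := MulAction.exists_smul_eq G R S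
  refine ⟨c, ?_⟩
  have h1 : x ∈ (S : Subgroup G) := hS (mem_zpowers x)
  rw [← hc, Sylow.smul_def] at h1
  obtain ⟨r, hr, hrx⟩ := h1
  have h2 : c * r * c⁻¹ = x := by simpa [MulAut.conj_apply] using hrx
  rw [← h2]
  exact mem_cent'.mp (cent_conj_mem.mpr (hR hr))

theorem CSH.caseA [Finite G] {n m : ℕ} (h : CSH G n m) {t : ℕ} (ht : t.Prime) (htm : ¬ t ∣ m) {x : G}
    (hx : PE t x) (hxn : ci x = n) :
    ∃ s b : ℕ, s.Prime ∧ m = s ^ b ∧ ∃ y : G, PE s y ∧ ci y = m := by
  have htf := Fact.mk ht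
  obtain ⟨x1, hx1⟩ := h.exm
  obtain ⟨s, hs, y0, -, hy0m, hy0⟩ := h.symm.exists_primary_n hx1
  obtain ⟨c, hc⟩ := exists_conj_commute (y := y0) ht hx (by rwa [hy0m])
  set y := c * y0 * c⁻¹ with hy
  have hyP : PE s y := hy0.conj c
  have hym : ci y = m := by rw [hy, ci_conj, hy0m]
  have hyx : y ∈ cent x := mem_cent'.mpr hc.symm
  set z : cent x := ⟨y, hyx⟩ with hz
  have hzP : PE s z := hyP.mk hyx
  have hzm : ci z = m := by
    have h1 := ci_cent_eq z (by rw [hxn]; show n.Coprime (ci y); rw [hym]; exact h.cop)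
    rw [h1]
    exact hym
  -- the `t`-regular class sizes of `C(x)`
  have hreg : ∀ w : cent x, (orderOf w).Coprime t → ci w = 1 ∨ ci w = m := by
    intro w hw
    apply ci_cent_cases h hxn
    refine hx.coprime_of ht ?_
    rw [Subgroup.orderOf_coe]
    exact hw
  have hst : s ≠ t := by
    rintro rfl
    have h35 : ∀ w : cent x, (orderOf w).Coprime s → ¬ s ∣ (ConjClasses.mk w).carrier.ncard := by
      intro w hw
      rw [Cfsg.Agent.H503.ncard_class]
      rcases hreg w hw with h1 | h1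
      · intro hd
        have h2 : ci w = (centralizer ({w} : Set (cent x))).index := rfl
        rw [← h2, h1] at hd
        exact hs.one_lt.ne' (Nat.dvd_one.mp hd)
      · intro hd
        have h2 : ci w = (centralizer ({w} : Set (cent x))).index := rfl
        rw [← h2, h1] at hd
        exact htm hd
    obtain ⟨P⟩ : Nonempty (Sylow s (cent x)) := inferInstance
    obtain ⟨hPn, H, hHn, hHs, hPH, hsup⟩ := Cfsg.Agent.S4035.result h35 P
    -- `z` lies in `P`
    have hzP2 : z ∈ (P : Subgroup (cent x)) := by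
      obtain ⟨Q, hQ⟩ := hzP.isPGroup.exists_le_sylow
      have hu := Sylow.unique_of_normal P hPn
      rw [← @Subsingleton.elim _ hu.instSubsingleton Q P]
      exact hQ (mem_zpowers z)
    have h1 : (P : Subgroup (cent x)) ≤ cent z := by
      obtain ⟨Q, hQ⟩ := exists_sylow_le_cent s z (by rw [hzm]; exact htm)
      have hu := Sylow.unique_of_normal P hPn
      rw [← @Subsingleton.elim _ hu.instSubsingleton Q P]
      exact hQ
    have h2 : H ≤ cent z := by
      intro g hg
      rw [mem_cent']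
      exact Subgroup.commute_of_normal_of_disjoint _ _ hHn hPn (by rw [disjoint_iff, inf_comm]; exact hPH)
        _ _ hg hzP2
    have h3 : cent z = ⊤ := by
      rw [eq_top_iff, ← hsup]
      exact sup_le h1 h2
    have h4 : ci z = 1 := by
      rw [ci_def]
      exact Subgroup.index_eq_one.mpr h3
    rw [hzm] at h4
    have := h.hm
    omega
  obtain ⟨i, j, hij⟩ := dvd_of_two_sizes ht hs hst h.hm hreg hzP hzm
  have hcop : m.Coprime (t ^ i) := (Nat.Coprime.pow_left i ((Nat.Prime.coprime_iff_not_dvd ht).mpr htm)).symm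
  obtain ⟨b, -, hb⟩ := (Nat.dvd_prime_pow hs).mp (hcop.dvd_of_dvd_mul_left hij)
  exact ⟨s, b, hs, hb, y, hyP, hym⟩

theorem isNilpotent_of_complements [Finite G]
    (h : ∀ p : ℕ, p.Prime → Cfsg.HasNormalPComplement p G) : Group.IsNilpotent G := by
  obtain ⟨K, hK, h1, -, h3⟩ :=
    Cfsg.Agent.OddOrderLocal.NilpotentQuotient.exists_normal_hall (X := G) ∅ (fun p hp _ _ => h p hp)
  have h4 : K = ⊥ := by
    rw [← Subgroup.card_eq_one]
    by_contra hne
    exact (h1 _ (Nat.minFac_prime hne) (Nat.minFac_dvd _)).elim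
  subst h4
  exact (Group.isNilpotent_congr QuotientGroup.quotientBot).mp h3

theorem CSH.nilp [Finite G] {n m : ℕ} (h : CSH G n m) {t s a b : ℕ} (ht : t.Prime) (hs : s.Prime)
    (hn : n = t ^ a) (hm : m = s ^ b) {x y : G} (hx : PE t x) (hxn : ci x = n) (hy : PE s y)
    (hym : ci y = m) : Group.IsNilpotent G := by
  have hts : t ≠ s := by
    rintro rfl
    have h1 := h.hn
    have h2 := h.hm
    have h3 := h.cop
    rw [hn, hm] at h3
    have ha : a ≠ 0 := by rintro rfl; rw [hn, pow_zero] at h1; omega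
    have hb : b ≠ 0 := by rintro rfl; rw [hm, pow_zero] at h2; omega
    rw [Nat.coprime_pow_left_iff (Nat.pos_of_ne_zero ha), Nat.coprime_pow_right_iff (Nat.pos_of_ne_zero hb),
      Nat.coprime_self] at h3
    exact ht.one_lt.ne' h3
  apply isNilpotent_of_complements
  intro p hp
  have hpf := Fact.mk hp
  by_cases hpt : p = t
  · subst hpt
    refine Cfsg.Agent.S4127.result p a ?_ ⟨x, hx.exists_orderOf hp, hxn.trans hn⟩
    intro g hg
    have hg' : p ^ (a + 1) ∣ ci g := hg
    have hps : ¬ p ∣ m := by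
      rw [hm]
      intro hd
      exact hts ((Nat.prime_dvd_prime_iff_eq hp hs).mp (hp.dvd_of_dvd_pow hd))
    rcases h.cases g with h1 | h1 | h1 | h1 <;> rw [h1] at hg'
    · have := Nat.dvd_one.mp ((dvd_pow_self p (Nat.succ_ne_zero a)).trans hg')
      exact hp.one_lt.ne' this
    · rw [hn] at hg'
      have := (Nat.pow_dvd_pow_iff_le_right hp.one_lt).mp hg'
      omega
    · exact hps ((dvd_pow_self p (Nat.succ_ne_zero a)).trans hg')
    · rw [hn, pow_succ] at hg'
      exact hps (Nat.dvd_of_mul_dvd_mul_left (pow_pos hp.pos a) hg')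
  by_cases hps : p = s
  · subst hps
    refine Cfsg.Agent.S4127.result p b ?_ ⟨y, hy.exists_orderOf hp, hym.trans hm⟩
    intro g hg
    have hg' : p ^ (b + 1) ∣ ci g := hg
    have hpn : ¬ p ∣ n := by
      rw [hn]
      intro hd
      exact hts ((Nat.prime_dvd_prime_iff_eq hp ht).mp (hp.dvd_of_dvd_pow hd)).symm
    rcases h.cases g with h1 | h1 | h1 | h1 <;> rw [h1] at hg'
    · have := Nat.dvd_one.mp ((dvd_pow_self p (Nat.succ_ne_zero b)).trans hg')
      exact hp.one_lt.ne' this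
    · exact hpn ((dvd_pow_self p (Nat.succ_ne_zero b)).trans hg')
    · rw [hm] at hg'
      have := (Nat.pow_dvd_pow_iff_le_right hp.one_lt).mp hg'
      omega
    · rw [hm, pow_succ, mul_comm n] at hg'
      exact hpn (Nat.dvd_of_mul_dvd_mul_left (pow_pos hp.pos b) hg')
  · refine Cfsg.Agent.S4127.result p 0 ?_ ⟨1, ⟨0, by simp⟩, ?_⟩
    · intro g hg
      rw [zero_add, pow_one] at hg
      have hg' : p ∣ ci g := hg
      have h1 : ¬ p ∣ n := by
        rw [hn]
        intro hd
        exact hpt ((Nat.prime_dvd_prime_iff_eq hp ht).mp (hp.dvd_of_dvd_pow hd))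
      have h2 : ¬ p ∣ m := by
        rw [hm]
        intro hd
        exact hps ((Nat.prime_dvd_prime_iff_eq hp hs).mp (hp.dvd_of_dvd_pow hd))
      rcases h.cases g with h3 | h3 | h3 | h3 <;> rw [h3] at hg'
      · exact hp.one_lt.ne' (Nat.dvd_one.mp hg')
      · exact h1 hg'
      · exact h2 hg'
      · exact (hp.dvd_mul.mp hg').elim h1 h2
    · rw [pow_zero]
      exact ci_eq_one_iff.mpr (one_mem _)

end Cfsg.Agent.H528.CS
end

-- part: H528/CSCaseB
section
/-!
# Groups with the class sizes `1, n, m, n m` (`n`, `m` coprime), III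

The remaining case: the primary elements of class size `n` are `t`-elements for primes `t` dividing `m`, and those
of class size `m` are `s`-elements for primes `s` dividing `n`. Then `n = s ^ a`, `m = t ^ b` (structure `TP`).
-/

set_option autoImplicit false
set_option linter.style.haveILetI false

namespace Cfsg.Agent.H528.CS

open Subgroup
open Cfsg.Agent.H528.ClassSize

variable {G : Type*} [Group G]

theorem center_le_cent (x : G) : center G ≤ cent x := Subgroup.center_le_centralizer _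

theorem relIndex_mul_ci (x : G) : (center G).relIndex (cent x) * ci x = (center G).index :=
  Subgroup.relIndex_mul_index (center_le_cent x)

theorem not_dvd_relIndex_of [Finite G] {r : ℕ} (hr : r.Prime) {H K : Subgroup G}
    (h : ∀ v ∈ K, PE r v → v ∈ H) : ¬ r ∣ H.relIndex K := by
  apply not_dvd_index_of_pe hr
  rintro ⟨v, hv⟩ hvP
  exact h v hv hvP.coe

theorem mem_center_of_not_dvd_relIndex [Finite G] {r : ℕ} (hr : r.Prime) {x v : G}
    (h : ¬ r ∣ (center G).relIndex (cent x)) (hv : PE r v) (hvx : Commute v x) : v ∈ center G := by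
  have hn : ((center G).subgroupOf (cent x)).Normal := inferInstance
  have h1 : (⟨v, mem_cent'.mpr hvx⟩ : cent x) ∈ (center G).subgroupOf (cent x) := by
    apply mem_of_coprime_index
    obtain ⟨k, hk⟩ := (hv.mk (mem_cent'.mpr hvx)).exists_orderOf hr
    rw [hk]
    exact Nat.Coprime.pow_left _ ((Nat.Prime.coprime_iff_not_dvd hr).mpr h)
  exact h1

variable [Finite G] {n m : ℕ}

theorem CSH.exists_commuting (h : CSH G n m)
    (hB2 : ∀ s : ℕ, s.Prime → ∀ y : G, PE s y → ci y = m → s ∣ n) {x : G} (hxn : ci x = n) :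
    ∃ s : ℕ, s.Prime ∧ s ∣ n ∧ ∃ v : G, PE s v ∧ v ∉ center G ∧ Commute v x := by
  by_contra hcon
  push Not at hcon
  have hn0 : 0 < n := lt_trans one_pos h.hn
  have hm0 : 0 < m := lt_trans one_pos h.hm
  -- the primes of `n` do not divide `|C(x) : Z|`
  have h1 : ∀ s : ℕ, s.Prime → s ∣ n → ¬ s ∣ (center G).relIndex (cent x) := by
    intro s hs hsn
    apply not_dvd_relIndex_of hs
    intro v hv hvP
    by_contra hvc
    exact hcon s hs hsn v hvP hvc (mem_cent'.mp hv)
  have hk1 := relIndex_mul_ci x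
  rw [hxn] at hk1
  -- step 2
  have h2 : ∀ r : ℕ, r.Prime → r ∣ m → ∀ w : G, PE r w → w ∉ center G → ∀ s : ℕ, s.Prime → s ∣ n →
      ∀ v : G, PE s v → Commute v w → v ∈ center G := by
    intro r hr hrm w hw hwc s hs hsn v hv hvw
    apply mem_center_of_not_dvd_relIndex hs _ hv hvw
    intro hd
    apply h1 s hs hsn
    have hnw : n ∣ ci w := by
      rcases h.cases w with h3 | h3 | h3 | h3
      · exact absurd (ci_eq_one_iff.mp h3) hwc
      · rw [h3]
      · exfalso
        have h4 := hB2 r hr w hw h3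
        exact hr.one_lt.ne' (Nat.eq_one_of_dvd_coprimes h.cop h4 hrm)
      · rw [h3]; exact dvd_mul_right _ _
    obtain ⟨c, hc⟩ := hnw
    have hk2 := relIndex_mul_ci w
    rw [hc, ← hk1, mul_comm n c, ← mul_assoc] at hk2
    have h5 := Nat.eq_of_mul_eq_mul_right hn0 hk2
    rw [← h5]
    exact hd.mul_right c
  -- step 3
  obtain ⟨y1, hy1⟩ := h.exm
  obtain ⟨s1, hs1, y, -, hym, hy⟩ := h.symm.exists_primary_n hy1
  have hs1n : s1 ∣ n := hB2 s1 hs1 y hy hym
  have hyc : y ∉ center G := by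
    intro hc
    rw [← ci_eq_one_iff, hym] at hc
    have := h.hm
    omega
  have h3 : ∀ r : ℕ, r.Prime → r ∣ m → ¬ r ∣ (center G).relIndex (cent y) := by
    intro r hr hrm
    apply not_dvd_relIndex_of hr
    intro w hw hwP
    by_contra hwc
    exact hyc (h2 r hr hrm w hwP hwc s1 hs1 hs1n y hy (mem_cent'.mp hw).symm)
  have hk3 := relIndex_mul_ci y
  rw [hym] at hk3
  -- step 4
  obtain ⟨g, hg⟩ := h.exnm
  have hk4 := relIndex_mul_ci g
  rw [hg] at hk4
  have e1 : (center G).relIndex (cent x) = (center G).relIndex (cent g) * m := by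
    apply Nat.eq_of_mul_eq_mul_right hn0
    rw [hk1, ← hk4]
    ring
  have e2 : (center G).relIndex (cent y) = (center G).relIndex (cent g) * n := by
    apply Nat.eq_of_mul_eq_mul_right hm0
    rw [hk3, ← hk4]
    ring
  have h5 : ∀ r : ℕ, r.Prime → ¬ r ∣ (center G).relIndex (cent g) := by
    intro r hr hd
    by_cases hrn : r ∣ n
    · exact h1 r hr hrn (by rw [e1]; exact hd.mul_right _)
    by_cases hrm : r ∣ m
    · exact h3 r hr hrm (by rw [e2]; exact hd.mul_right _)
    · exact not_dvd_relIndex_of hr (fun v _ hv => h.mem_center hr hrn hrm hv) hd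
  have h6 : (center G).relIndex (cent g) = 1 := by
    by_contra hne
    exact h5 _ (Nat.minFac_prime hne) (Nat.minFac_dvd _)
  rw [Subgroup.relIndex_eq_one] at h6
  have h7 : g ∈ center G := h6 (mem_cent'.mpr (Commute.refl g))
  rw [← ci_eq_one_iff, hg] at h7
  have h8 := h.hm
  have h9 : n * m ≥ m := Nat.le_mul_of_pos_left m hn0
  omega

theorem CSH.pow_of_caseB (h : CSH G n m)
    (hB1 : ∀ t : ℕ, t.Prime → ∀ x : G, PE t x → ci x = n → t ∣ m)
    (hB2 : ∀ s : ℕ, s.Prime → ∀ y : G, PE s y → ci y = m → s ∣ n) :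
    ∃ t b : ℕ, t.Prime ∧ m = t ^ b ∧ ∃ x : G, PE t x ∧ ci x = n := by
  obtain ⟨x1, hx1⟩ := h.exn
  obtain ⟨t, ht, x, -, hxn, hx⟩ := h.exists_primary_n hx1
  have htm := hB1 t ht x hx hxn
  obtain ⟨s, hs, hsn, v, hv, hvc, hvx⟩ := h.exists_commuting hB2 hxn
  have hst : s ≠ t := by
    rintro rfl
    exact hs.one_lt.ne' (Nat.eq_one_of_dvd_coprimes h.cop hsn htm)
  have hsm : ¬ s ∣ m := fun hd => hs.one_lt.ne' (Nat.eq_one_of_dvd_coprimes h.cop hsn hd)
  set z : cent x := ⟨v, mem_cent'.mpr hvx⟩ with hz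
  have hzP : PE s z := hv.mk _
  have hreg : ∀ w : cent x, (orderOf w).Coprime t → ci w = 1 ∨ ci w = m := by
    intro w hw
    apply ci_cent_cases h hxn
    refine hx.coprime_of ht ?_
    rw [Subgroup.orderOf_coe]
    exact hw
  have hzm : ci z = m := by
    rcases hreg z (hzP.coprime hs ht hst) with h1 | h1
    · exfalso
      rw [ci_eq_one_iff] at h1
      have h2 : cent x ≤ cent v := by
        intro g hg
        rw [mem_cent']
        exact congrArg Subtype.val (mem_center_iff.mp h1 ⟨g, hg⟩)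
      have h3 := ci_dvd_of_le h2
      rw [hxn] at h3
      rcases h.of_dvd' (h.cases v) h3 with h4 | h4
      · exact hvc (ci_eq_one_iff.mp h4)
      · exact hsm (hB1 s hs v hv h4)
    · exact h1
  obtain ⟨i, j, hij⟩ := dvd_of_two_sizes ht hs hst h.hm hreg hzP hzm
  have hcop : m.Coprime (s ^ j) := (Nat.Coprime.pow_left j ((Nat.Prime.coprime_iff_not_dvd hs).mpr hsm)).symm
  obtain ⟨b, -, hb⟩ := (Nat.dvd_prime_pow ht).mp (hcop.dvd_of_dvd_mul_right hij)
  exact ⟨t, b, ht, hb, x, hx, hxn⟩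

/-- The two-prime case. -/
structure TP (G : Type*) [Group G] (s t a b : ℕ) : Prop where
  hs : s.Prime
  ht : t.Prime
  hst : s ≠ t
  csh : CSH G (s ^ a) (t ^ b)
  hS : ∀ r : ℕ, r.Prime → ∀ x : G, PE r x → ci x = s ^ a → r = t
  hT : ∀ r : ℕ, r.Prime → ∀ y : G, PE r y → ci y = t ^ b → r = s
  exS : ∃ y : G, PE s y ∧ ci y = t ^ b
  exT : ∃ x : G, PE t x ∧ ci x = s ^ a
  b1 : ∀ x : G, ci x = s ^ a → ∃ v : G, PE s v ∧ v ∉ center G ∧ Commute v x
  b1' : ∀ y : G, ci y = t ^ b → ∃ v : G, PE t v ∧ v ∉ center G ∧ Commute v y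

theorem TP.symm {s t a b : ℕ} (h : TP G s t a b) : TP G t s b a where
  hs := h.ht
  ht := h.hs
  hst := h.hst.symm
  csh := h.csh.symm
  hS := h.hT
  hT := h.hS
  exS := h.exT
  exT := h.exS
  b1 := h.b1'
  b1' := h.b1

theorem CSH.toTP (h : CSH G n m)
    (hB1 : ∀ t : ℕ, t.Prime → ∀ x : G, PE t x → ci x = n → t ∣ m)
    (hB2 : ∀ s : ℕ, s.Prime → ∀ y : G, PE s y → ci y = m → s ∣ n) :
    ∃ s t a b : ℕ, n = s ^ a ∧ m = t ^ b ∧ TP G s t a b := by
  obtain ⟨t, b, ht, hb, x, hx, hxn⟩ := h.pow_of_caseB hB1 hB2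
  obtain ⟨s, a, hs, ha, y, hy, hym⟩ := h.symm.pow_of_caseB hB2 hB1
  have hst : s ≠ t := by
    rintro rfl
    have h1 : s ∣ m := hB1 s hs x hx hxn
    have h2 : s ∣ n := hB2 s hs y hy hym
    exact hs.one_lt.ne' (Nat.eq_one_of_dvd_coprimes h.cop h2 h1)
  refine ⟨s, t, a, b, ha, hb, ?_⟩
  subst ha hb
  refine ⟨hs, ht, hst, h, ?_, ?_, ⟨y, hy, hym⟩, ⟨x, hx, hxn⟩, ?_, ?_⟩
  · intro r hr x hx hxn
    exact (Nat.prime_dvd_prime_iff_eq hr ht).mp (hr.dvd_of_dvd_pow (hB1 r hr x hx hxn))
  · intro r hr x hx hxn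
    exact (Nat.prime_dvd_prime_iff_eq hr hs).mp (hr.dvd_of_dvd_pow (hB2 r hr x hx hxn))
  · intro x hx
    obtain ⟨r, hr, hrn, v, hv, hvc, hvx⟩ := h.exists_commuting hB2 hx
    have hrs := (Nat.prime_dvd_prime_iff_eq hr hs).mp (hr.dvd_of_dvd_pow hrn)
    subst hrs
    exact ⟨v, hv, hvc, hvx⟩
  · intro x hx
    obtain ⟨r, hr, hrn, v, hv, hvc, hvx⟩ := h.symm.exists_commuting hB1 hx
    have hrs := (Nat.prime_dvd_prime_iff_eq hr ht).mp (hr.dvd_of_dvd_pow hrn)
    subst hrs
    exact ⟨v, hv, hvc, hvx⟩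

end Cfsg.Agent.H528.CS
end

-- part: H528/CSTwo
section
/-!
# Groups with the class sizes `1, s ^ a, t ^ b, s ^ a t ^ b`, I

The tools for the two-prime case `TP` : centralizers of elements of largest class size, commuting pairs, abelian
Sylow subgroups of the centralizers, the Fitting subgroup.
-/

set_option autoImplicit false
set_option linter.style.haveILetI false

namespace Cfsg.Agent.H528.CS

open Subgroup
open Cfsg.Agent.H528.ClassSize

variable {G : Type*} [Group G]

/-! ### General lemmas -/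

/-- A `r`-subgroup is conjugate into a subgroup of index prime to `r`. -/
theorem exists_conj_le [Finite G] {r : ℕ} (hr : r.Prime) {H Q : Subgroup G} (h : ¬ r ∣ H.index)
    (hQ : IsPGroup r Q) : ∃ c : G, ∀ q ∈ Q, c * q * c⁻¹ ∈ H := by
  have := Fact.mk hr
  obtain ⟨R, hR⟩ := exists_sylow_le r H h
  obtain ⟨S, hS⟩ := hQ.exists_le_sylow
  obtain ⟨c, hc⟩ := MulAction.exists_smul_eq G S R
  refine ⟨c, fun q hq => hR ?_⟩
  rw [← hc, Sylow.smul_def]
  exact ⟨q, hS hq, rfl⟩

/-- Normal subgroups of order prime to the class size of `x` centralize `x`. -/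
theorem le_cent_of_coprime [Finite G] {M : Subgroup G} [M.Normal] {x : G}
    (h : (ci x).Coprime (Nat.card M)) : M ≤ cent x := by
  rw [← Subgroup.relIndex_eq_one]
  exact Nat.eq_one_of_dvd_coprimes h (relIndex_dvd_index _ _) (Subgroup.relIndex_dvd_card _ _)

/-- Index computation: if `|G : C(w)| = r ^ c * e`, `r ∤ e`, `r ^ c` divides `|G : K|` and `K ∩ C(w)` contains a
Sylow `r`-subgroup of `C(w)`, then it contains one of `K`. -/
theorem not_dvd_relIndex_cent [Finite G] {r c e : ℕ} (hr : r.Prime) {K : Subgroup G} {w : G}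
    (h1 : ¬ r ∣ K.relIndex (cent w)) (h2 : r ^ c ∣ K.index) (h3 : ci w = r ^ c * e) (he : ¬ r ∣ e) :
    ¬ r ∣ (cent w).relIndex K := by
  intro hd
  have e1 : (cent w).relIndex K * K.index = (cent w ⊓ K).index := by
    have := Subgroup.relIndex_mul_index (H := cent w ⊓ K) (K := K) inf_le_right
    rwa [Subgroup.inf_relIndex_right] at this
  have e2 : K.relIndex (cent w) * (cent w).index = (cent w ⊓ K).index := by
    have := Subgroup.relIndex_mul_index (H := cent w ⊓ K) (K := cent w) inf_le_left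
    rwa [Subgroup.inf_relIndex_left] at this
  obtain ⟨f, hf⟩ := h2
  obtain ⟨g, hg⟩ := hd
  have h4 : (cent w).index = r ^ c * e := h3
  rw [← e1, h4, hg, hf] at e2
  have h5 : K.relIndex (cent w) * e = r * g * f := by
    apply Nat.eq_of_mul_eq_mul_left (pow_pos hr.pos c)
    calc r ^ c * (K.relIndex (cent w) * e) = K.relIndex (cent w) * (r ^ c * e) := by ring
      _ = r * g * (r ^ c * f) := e2
      _ = r ^ c * (r * g * f) := by ring
  have h6 : r ∣ K.relIndex (cent w) * e := by
    rw [h5, mul_assoc]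
    exact dvd_mul_right _ _
  exact (hr.dvd_mul.mp h6).elim h1 he

theorem relIndex_dvd_relIndex [Finite G] (C : Subgroup G) {L K : Subgroup G} [L.Normal] (h : L ≤ K) :
    C.relIndex L ∣ C.relIndex K := by
  have h1 := relIndex_dvd_index (C.subgroupOf K) (L.subgroupOf K)
  rw [Subgroup.relIndex_subgroupOf h] at h1
  exact h1

theorem commute_of_inf_eq_bot {H K : Subgroup G} [H.Normal] [K.Normal] (h : H ⊓ K = ⊥) {x y : G}
    (hx : x ∈ H) (hy : y ∈ K) : Commute x y :=
  Subgroup.commute_of_normal_of_disjoint _ _ inferInstance inferInstance (disjoint_iff.mpr h) _ _ hx hy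

instance pCore_normal_inst (p : ℕ) : (Cfsg.pCore p G).Normal := Cfsg.Agent.Lib.HallHigman.pCore_normal p

instance pPrimeCore_normal_inst (p : ℕ) : (Cfsg.pPrimeCore p G).Normal :=
  Cfsg.Agent.Lib.HallHigman.pPrimeCore_normal p

theorem pCore_le_pPrimeCore [Finite G] {s t : ℕ} (hs : s.Prime) (ht : t.Prime) (hst : s ≠ t) :
    Cfsg.pCore t G ≤ Cfsg.pPrimeCore s G := by
  have := Fact.mk ht
  apply Cfsg.Agent.Lib.HallHigman.le_pPrimeCore inferInstance
  obtain ⟨k, hk⟩ := (Cfsg.Agent.Lib.HallHigman.pCore_isPGroup (G := G) t).exists_card_eq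
  rw [hk]
  exact Nat.Coprime.pow_left _ ((Nat.coprime_primes ht hs).mpr hst.symm)

theorem pCore_inf_pPrimeCore [Finite G] {s : ℕ} (hs : s.Prime) :
    Cfsg.pCore s G ⊓ Cfsg.pPrimeCore s G = ⊥ := by
  have := Fact.mk hs
  apply Subgroup.inf_eq_bot_of_coprime
  obtain ⟨k, hk⟩ := (Cfsg.Agent.Lib.HallHigman.pCore_isPGroup (G := G) s).exists_card_eq
  rw [hk]
  exact Nat.Coprime.pow_left _ (Cfsg.Agent.Lib.HallHigman.pPrimeCore_coprime s).symm

/-! ### First consequences -/

namespace TP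

variable [Finite G] {s t a b : ℕ} (h : TP G s t a b)

include h

theorem not_dvd_s : ¬ t ∣ s ^ a := by
  intro hd
  exact h.hst ((Nat.prime_dvd_prime_iff_eq h.ht h.hs).mp (h.ht.dvd_of_dvd_pow hd)).symm

theorem not_dvd_t : ¬ s ∣ t ^ b := by
  intro hd
  exact h.hst ((Nat.prime_dvd_prime_iff_eq h.hs h.ht).mp (h.hs.dvd_of_dvd_pow hd))

theorem mem_center {r : ℕ} (hr : r.Prime) (hrs : r ≠ s) (hrt : r ≠ t) {x : G} (hx : PE r x) :
    x ∈ center G := by
  apply h.csh.mem_center hr _ _ hx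
  · intro hd
    exact hrs ((Nat.prime_dvd_prime_iff_eq hr h.hs).mp (hr.dvd_of_dvd_pow hd))
  · intro hd
    exact hrt ((Nat.prime_dvd_prime_iff_eq hr h.ht).mp (hr.dvd_of_dvd_pow hd))

/-- Elements of order prime to `s` and to `t` are central. -/
theorem mem_center_of_coprime {x : G} (hs : (orderOf x).Coprime s) (ht : (orderOf x).Coprime t) :
    x ∈ center G := by
  by_contra hx
  obtain ⟨r, hr, y, hy, hyc, hyP⟩ := exists_primary' hx
  have hyo : orderOf y ∣ orderOf x := orderOf_dvd_of_mem_zpowers hy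
  apply hyc
  apply h.mem_center hr _ _ hyP
  · rintro rfl
    rw [hyP.eq_one h.hs (hs.coprime_dvd_left hyo)] at hyc
    exact hyc (one_mem _)
  · rintro rfl
    rw [hyP.eq_one h.ht (ht.coprime_dvd_left hyo)] at hyc
    exact hyc (one_mem _)

theorem ciT {x : G} (hx : PE t x) (hxc : x ∉ center G) : ci x = s ^ a ∨ ci x = s ^ a * t ^ b := by
  rcases h.csh.cases x with h1 | h1 | h1 | h1
  · exact absurd (ci_eq_one_iff.mp h1) hxc
  · exact Or.inl h1
  · exact absurd (h.hT t h.ht x hx h1) h.hst.symm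
  · exact Or.inr h1

theorem ciS {y : G} (hy : PE s y) (hyc : y ∉ center G) : ci y = t ^ b ∨ ci y = s ^ a * t ^ b := by
  rcases h.symm.ciT hy hyc with h1 | h1
  · exact Or.inl h1
  · exact Or.inr (by rw [h1, mul_comm])

theorem not_mem_center {x : G} {c : ℕ} (hx : ci x = c) (hc : c = s ^ a ∨ c = t ^ b ∨ c = s ^ a * t ^ b) :
    x ∉ center G := by
  intro hxc
  rw [← ci_eq_one_iff, hx] at hxc
  have h1 := h.csh.hn
  have h2 := h.csh.hm
  have h3 : t ^ b ≤ s ^ a * t ^ b := Nat.le_mul_of_pos_left _ (by omega)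
  omega

/-- The elements of the centralizer of an element of the largest class size, of coprime order. -/
theorem cent_le {w z : G} (hcop : (orderOf w).Coprime (orderOf z)) (hw : ci w = s ^ a * t ^ b)
    (hc : Commute w z) : cent w ≤ cent z := by
  have h1 : cent (w * z) ≤ cent w := by rw [cent_mul hc hcop]; exact inf_le_left
  have h2 : cent (w * z) ≤ cent z := by rw [cent_mul hc hcop]; exact inf_le_right
  have h3 : ci w ∣ ci (w * z) := ci_dvd_of_le h1
  have h4 : ci (w * z) ∣ ci w := by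
    rw [hw]
    rcases h.csh.cases (w * z) with h5 | h5 | h5 | h5 <;> rw [h5]
    · exact one_dvd _
    · exact dvd_mul_right _ _
    · exact dvd_mul_left _ _
  rw [← cent_eq_of_dvd h1 h4]
  exact h2

theorem cop_st {x y : G} (hx : PE s x) (hy : PE t y) : (orderOf x).Coprime (orderOf y) :=
  hx.coprime_of h.hs (hy.coprime h.ht h.hs h.hst.symm)

/-- The `s`-subgroups of the centralizer of a noncentral `t`-element are abelian. -/
theorem commute_of_cent {w : G} (hw : PE t w) (hwc : w ∉ center G) {Q : Subgroup G} (hQ : IsPGroup s Q)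
    (hQw : Q ≤ cent w) {z₁ z₂ : G} (h1 : z₁ ∈ Q) (h2 : z₂ ∈ Q) : Commute z₁ z₂ := by
  have hsp : ∀ z : cent w, (orderOf z).Coprime t → ∃ k : ℕ, (ConjClasses.mk z).carrier.ncard = t ^ k := by
    intro z hz
    rw [Cfsg.Agent.H503.ncard_class]
    show ∃ k : ℕ, ci z = t ^ k
    have h3 := ci_mul z (hw.coprime_of h.ht (by rw [Subgroup.orderOf_coe]; exact hz))
    have hs0 : 0 < s ^ a := by have := h.csh.hn; omega
    have ht0 : 0 < t ^ b := by have := h.csh.hm; omega
    rcases h.ciT hw hwc with h4 | h4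
    · rw [h4] at h3
      rcases h.csh.of_dvd (h.csh.cases _) (h3 ▸ dvd_mul_right _ _) with h5 | h5
      · rw [h5] at h3
        refine ⟨0, ?_⟩
        rw [pow_zero]
        exact Nat.eq_of_mul_eq_mul_left hs0 (by rw [mul_one]; exact h3.symm)
      · rw [h5] at h3
        exact ⟨b, (Nat.eq_of_mul_eq_mul_left hs0 h3).symm⟩
    · rw [h4] at h3
      have h6 : ci (w * (z : G)) ∣ s ^ a * t ^ b := by
        rcases h.csh.cases (w * z) with h5 | h5 | h5 | h5 <;> rw [h5]
        · exact one_dvd _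
        · exact dvd_mul_right _ _
        · exact dvd_mul_left _ _
      refine ⟨0, ?_⟩
      rw [pow_zero]
      rw [h3] at h6
      have h7 : s ^ a * t ^ b * ci z ∣ s ^ a * t ^ b * 1 := by rw [mul_one]; exact h6
      exact Nat.dvd_one.mp (Nat.dvd_of_mul_dvd_mul_left (Nat.mul_pos hs0 ht0) h7)
  obtain ⟨H, hHc, -, k, hk⟩ := (Cfsg.Agent.S4034.result h.ht).mp hsp
  have hidx : ¬ s ∣ H.index := by
    rw [hk]
    intro hd
    exact h.hst ((Nat.prime_dvd_prime_iff_eq h.hs h.ht).mp (h.hs.dvd_of_dvd_pow hd))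
  have hQ' : IsPGroup s (Q.subgroupOf (cent w)) :=
    hQ.comap_of_injective (cent w).subtype (cent w).subtype_injective
  obtain ⟨c, hc⟩ := exists_conj_le h.hs hidx hQ'
  have k1 := hc ⟨z₁, hQw h1⟩ (Subgroup.mem_subgroupOf.mpr h1)
  have k2 := hc ⟨z₂, hQw h2⟩ (Subgroup.mem_subgroupOf.mpr h2)
  have k3 : Commute (c * ⟨z₁, hQw h1⟩ * c⁻¹) (c * ⟨z₂, hQw h2⟩ * c⁻¹) :=
    congrArg Subtype.val (hHc.is_comm.comm ⟨_, k1⟩ ⟨_, k2⟩)
  have k4 := mem_cent'.mp (cent_conj_mem.mp (mem_cent'.mpr k3))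
  exact congrArg Subtype.val k4.eq

/-- A `t`-element of class size `s ^ a` commutes with an `s`-element of class size `t ^ b`. -/
theorem exists_commute {x : G} (hx : PE t x) (hxn : ci x = s ^ a) :
    ∃ y : G, PE s y ∧ ci y = t ^ b ∧ Commute x y := by
  obtain ⟨v, hv, hvc, hvx⟩ := h.b1 x hxn
  rcases h.ciS hv hvc with h1 | h1
  · exact ⟨v, hv, h1, hvx.symm⟩
  obtain ⟨y, hy, hym⟩ := h.exS
  refine ⟨y, hy, hym, ?_⟩
  have hcop : (cent y).index.Coprime (cent x).index := by
    show (ci y).Coprime (ci x)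
    rw [hym, hxn]
    exact h.csh.cop.symm
  have hidx : ((cent y).subgroupOf (cent x)).index = ci y := by
    obtain ⟨h2, -⟩ := Cfsg.Agent.S0007.result (cent y) (cent x) hcop
    have h3 := Subgroup.relIndex_mul_index (H := cent y ⊓ cent x) (K := cent x) inf_le_right
    rw [Subgroup.inf_relIndex_right, h2] at h3
    exact Nat.eq_of_mul_eq_mul_right (Nat.pos_of_ne_zero (ci_ne_zero x)) h3
  have hvm : v ∈ cent x := mem_cent'.mpr hvx
  obtain ⟨c, hc⟩ := exists_conj_le h.hs (H := (cent y).subgroupOf (cent x))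
    (by rw [hidx, hym]; exact h.not_dvd_t) (hv.mk hvm).isPGroup
  have h4 := hc _ (mem_zpowers _)
  rw [Subgroup.mem_subgroupOf] at h4
  set v' : G := (c : G) * v * (c : G)⁻¹ with hv'
  have h5 : v' ∈ cent y := by simpa using h4
  have h6 : Commute v' x := by
    have h8 : v' ∈ cent x := (c * ⟨v, hvm⟩ * c⁻¹ : cent x).2
    exact mem_cent'.mp h8
  have h7 : cent v' ≤ cent x := by
    apply h.cent_le (h.cop_st (hv.conj _) hx) _ h6
    rw [ci_conj, h1]
  have h8 : y ∈ cent x := h7 (mem_cent_comm.mp h5)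
  exact (mem_cent'.mp h8).symm

/-! ### Solvability and the Fitting subgroup -/

theorem solvable : Group.IsSolvable G := by
  have h1 : ∀ r : ℕ, r.Prime → r ∣ (center G).index → r = s ∨ r = t := by
    intro r hr hd
    by_contra hcon
    push Not at hcon
    exact not_dvd_index_of_pe hr (center G) (fun x hx => h.mem_center hr hcon.1 hcon.2 hx) hd
  obtain ⟨i, m1, hm1, hi⟩ := Nat.exists_eq_pow_mul_and_not_dvd (n := (center G).index)
    Subgroup.index_ne_zero_of_finite s h.hs.ne_one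
  have hm10 : m1 ≠ 0 := by
    rintro rfl
    exact hm1 (dvd_zero _)
  obtain ⟨j, m2, hm2, hj⟩ := Nat.exists_eq_pow_mul_and_not_dvd hm10 t h.ht.ne_one
  have hm2' : m2 = 1 := by
    by_contra hne
    have hp := Nat.minFac_prime hne
    have hd := Nat.minFac_dvd m2
    have hd1 : m2.minFac ∣ m1 := by rw [hj]; exact hd.mul_left _
    have hd2 : m2.minFac ∣ (center G).index := by rw [hi]; exact hd1.mul_left _
    rcases h1 _ hp hd2 with h2 | h2
    · exact hm1 (h2 ▸ hd1)
    · exact hm2 (h2 ▸ hd)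
  have hcard : Nat.card (G ⧸ center G) = s ^ i * t ^ j := by
    rw [← Subgroup.index_eq_card, hi, hj, hm2', mul_one]
  have h3 : Group.IsSolvable (G ⧸ center G) := Cfsg.Agent.S0144.result s t i j h.hs h.ht hcard
  have h4 : Group.IsSolvable (center G) := by
    apply Group.isSolvable_of_comm
    intro x y
    exact Subtype.ext (mem_center_iff.mp y.2 x)
  exact solvable_of_ker_le_range (center G).subtype (QuotientGroup.mk' (center G)) (by simp)

/-- An `s`-element centralizing `O_s(G)` and `O_t(G)` lies in `O_s(G)`. -/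
theorem fit {z : G} (hz : PE s z) (h1 : Cfsg.pCore s G ≤ cent z) (h2 : Cfsg.pCore t G ≤ cent z) :
    z ∈ Cfsg.pCore s G := by
  have := h.solvable
  have := Fact.mk h.hs
  have h3 : Cfsg.fittingSubgroup G ≤ cent z := by
    rw [Cfsg.Agent.Lib.Cores.fittingSubgroup_eq_iSup_pCore]
    apply iSup_le
    rintro ⟨p, hp⟩
    by_cases hps : p = s
    · subst hps
      exact h1
    by_cases hpt : p = t
    · subst hpt
      exact h2
    · intro g hg
      have := Fact.mk hp
      have hgc := h.mem_center hp hps hpt (pe_of_mem (Cfsg.Agent.Lib.HallHigman.pCore_isPGroup p) hg)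
      exact mem_cent'.mpr ((mem_center_iff.mp hgc z).symm)
  have h4 : z ∈ Cfsg.fittingSubgroup G := by
    apply Cfsg.Agent.S0044.result
    rw [Subgroup.mem_centralizer_iff]
    intro g hg
    exact mem_cent'.mp (h3 hg)
  exact Cfsg.Agent.Lib.BenderMaximal.le_pCore_of_le_fittingSubgroup hz.isPGroup
    ((Subgroup.zpowers_le).mpr h4) (mem_zpowers z)

/-- Elements of class size `s ^ a` centralize `O_{s'}(G)`. -/
theorem le_cent_of_ci {x : G} (hx : ci x = s ^ a) : Cfsg.pPrimeCore s G ≤ cent x := by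
  apply le_cent_of_coprime
  rw [hx]
  exact Nat.Coprime.pow_left _ (Cfsg.Agent.Lib.HallHigman.pPrimeCore_coprime s).symm

theorem pCore_le_cent_of_ci {x : G} (hx : ci x = s ^ a) : Cfsg.pCore t G ≤ cent x :=
  (pCore_le_pPrimeCore h.hs h.ht h.hst).trans (h.le_cent_of_ci hx)

end TP

end Cfsg.Agent.H528.CS
end
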